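import Mathlib

/-!
Elementary identities behind abstract Shintani descent.
-/

set_option autoImplicit false

namespace CfsgLib.Shintani

variable {X : Type*} [Group X] (σ : MulAut X)

lemma mem_fix {τ : MulAut X} {x : X} :
    x ∈ (MulEquiv.toMonoidHom τ).eqLocus (MonoidHom.id X) ↔ τ x = x := Iff.rfl

lemma pow_succ_apply (n : ℕ) (x : X) : (σ ^ (n + 1)) x = σ ((σ ^ n) x) := by
  rw [pow_succ']; rfl

lemma pow_succ_apply' (n : ℕ) (x : X) : (σ ^ (n + 1)) x = (σ ^ n) (σ x) := by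
  rw [pow_succ]; rfl

lemma comm_apply (n : ℕ) (x : X) : σ ((σ ^ n) x) = (σ ^ n) (σ x) :=
  (pow_succ_apply σ n x).symm.trans (pow_succ_apply' σ n x)

lemma pow_fix_of_fix {x : X} (h : σ x = x) (n : ℕ) : (σ ^ n) x = x := by
  induction n with
  | zero => simp
  | succ n ih => rw [pow_succ_apply, ih, h]

lemma telescope (a : X) (n : ℕ) :
    ((List.range n).map (fun i => (σ ^ i) (a * (σ a)⁻¹))).prod = a * ((σ ^ n) a)⁻¹ := by
  induction n with
  | zero => simp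
  | succ n ih =>
    simp only [List.range_succ, List.map_append, List.map_cons, List.map_nil, List.prod_append,
      List.prod_cons, List.prod_nil, mul_one, map_mul, map_inv]
    simp only [map_mul, map_inv] at ih
    rw [ih, ← pow_succ_apply']
    simp [mul_assoc]

/-- The Shintani image of `a`. -/
lemma image_fix {e : ℕ} {g a : X} (ha : g = a * (σ a)⁻¹) (hg : (σ ^ e) g = g) :
    σ (((σ ^ e) a)⁻¹ * a) = ((σ ^ e) a)⁻¹ * a := by
  rw [map_mul, map_inv, comm_apply]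
  have h1 : σ a = g⁻¹ * a := by rw [ha]; group
  rw [h1, map_mul, map_inv, hg]
  group

lemma pow_apply_eq {e : ℕ} {a x : X} (hx : ((σ ^ e) a)⁻¹ * a = x) : (σ ^ e) a = a * x⁻¹ := by
  rw [← hx]; group

lemma pow_mul_image {e : ℕ} {g a : X} (ha : g = a * (σ a)⁻¹) (hg : (σ ^ e) g = g) (d : ℕ) :
    ((σ ^ (e * d)) a)⁻¹ * a = (((σ ^ e) a)⁻¹ * a) ^ d := by
  have hfix := image_fix σ ha hg
  generalize hx : ((σ ^ e) a)⁻¹ * a = x at hfix ⊢
  induction d with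
  | zero => simp
  | succ d ih =>
    have h2 : (σ ^ (e * (d + 1))) a = (σ ^ (e * d)) a * x⁻¹ := by
      rw [mul_add, mul_one, pow_add, MulAut.mul_apply, pow_apply_eq σ hx, map_mul, map_inv,
        pow_fix_of_fix σ hfix]
    rw [h2, mul_inv_rev, inv_inv, mul_assoc, ih, pow_succ']

/-- `a⁻¹ k a` commutes with the Shintani image iff `k` is fixed by `σ ^ e`, given that it is `σ`-fixed. -/
lemma descend_iff {e : ℕ} {g a g' b : X} (ha : g = a * (σ a)⁻¹) (hb : g' = b * (σ b)⁻¹) (k : X) :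
    ((σ ^ e) k = k ∧ g' = k * g * (σ k)⁻¹) ↔
      (σ (b⁻¹ * k * a) = b⁻¹ * k * a ∧
        ((σ ^ e) b)⁻¹ * b = (b⁻¹ * k * a) * (((σ ^ e) a)⁻¹ * a) * (b⁻¹ * k * a)⁻¹) := by
  have H : g' = k * g * (σ k)⁻¹ ↔ σ (b⁻¹ * k * a) = b⁻¹ * k * a := by
    rw [hb, ha, map_mul, map_mul, map_inv]
    constructor
    · intro h
      have h1 : σ b = (b⁻¹ * k * (a * (σ a)⁻¹) * (σ k)⁻¹)⁻¹ := by
        rw [show b⁻¹ * k * (a * (σ a)⁻¹) * (σ k)⁻¹ = b⁻¹ * (k * (a * (σ a)⁻¹) * (σ k)⁻¹) by group,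
          ← h]
        group
      rw [h1]; group
    · intro h
      rw [show k * (a * (σ a)⁻¹) * (σ k)⁻¹ = b * (b⁻¹ * k * a) * (σ k * σ a)⁻¹ by group, ← h]
      group
  rw [H]
  constructor
  · rintro ⟨hk, hs⟩
    refine ⟨hs, ?_⟩
    have h1 := pow_fix_of_fix σ hs e
    rw [map_mul, map_mul, map_inv, hk] at h1
    calc ((σ ^ e) b)⁻¹ * b
        = (((σ ^ e) b)⁻¹ * k * (σ ^ e) a) * (((σ ^ e) a)⁻¹ * a) * (b⁻¹ * k * a)⁻¹ := by group
      _ = _ := by rw [h1]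
  · rintro ⟨hs, hx⟩
    refine ⟨?_, hs⟩
    have h1 := pow_fix_of_fix σ hs e
    rw [map_mul, map_mul, map_inv] at h1
    calc (σ ^ e) k
        = (σ ^ e) b * (((σ ^ e) b)⁻¹ * (σ ^ e) k * (σ ^ e) a) * ((σ ^ e) a)⁻¹ := by group
      _ = (σ ^ e) b * (b⁻¹ * k * a) * ((σ ^ e) a)⁻¹ := by rw [h1]
      _ = (σ ^ e) b * ((b⁻¹ * k * a) * (((σ ^ e) a)⁻¹ * a) * (b⁻¹ * k * a)⁻¹) * (b⁻¹ * k * a) *
            a⁻¹ := by group
      _ = (σ ^ e) b * (((σ ^ e) b)⁻¹ * b) * (b⁻¹ * k * a) * a⁻¹ := by rw [← hx]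
      _ = k := by group

end CfsgLib.Shintani
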